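import Cfsg.Agent.H954.LD.Row
import Cfsg.Agent.H934.OutB
import Cfsg.Agent.H424.DegTools

/-!
# S4910, sporadic rows: rows from degrees of the model (helper781)

`copRow_of_model` : `|Out| = 1`, two coprime degrees `≠ 1` of the model; `copRow_of_model_pp` : a prime power degree.
-/

set_option autoImplicit false

namespace Cfsg.Agent.H781.LD

open Cfsg Cfsg.Agent.H954.LD

universe u v

/-- two coprime degrees of the model, `Out = 1` -/
theorem copRow_of_model {T : Type v} [Group T] {S : Type u} [Group S] [Finite S] [IsSimpleGroup S]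
    (hna : ¬ IsMulCommutative S) (e : S ≃* T) (h1 : Nat.card (Out T) = 1) {a b : ℕ} (ha : a ∈ charDegrees T)
    (hb : b ∈ charDegrees T) (ha1 : a ≠ 1) (hb1 : b ≠ 1) (hab : Nat.Coprime a b) : CopRow S := by
  rw [← H424.DegTools.charDegrees_congr e] at ha hb
  obtain ⟨α, rfl⟩ := ha
  obtain ⟨β, rfl⟩ := hb
  exact copRow_one hna ((H934.OutB.card_out_congr e).trans h1) ha1 hb1 hab

/-- a prime power degree of the model, `Out = 1` -/
theorem copRow_of_model_pp {T : Type v} [Group T] {S : Type u} [Group S] [Finite S] [IsSimpleGroup S]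
    (hna : ¬ IsMulCommutative S) (e : S ≃* T) (h1 : Nat.card (Out T) = 1) {a : ℕ} (ha : a ∈ charDegrees T)
    (hp : IsPrimePow a) : CopRow S := by
  rw [← H424.DegTools.charDegrees_congr e] at ha
  obtain ⟨α, rfl⟩ := ha
  exact copRow_one_pp hna ((H934.OutB.card_out_congr e).trans h1) hp

end Cfsg.Agent.H781.LD
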