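import Cfsg.Agent.H781.LD.Base
import Cfsg.Agent.H894.J4Two
import Cfsg.Agent.H492.IMJ4
import Cfsg.Agent.S2068

/-!
# S4910, the row `J₄` (helper781)

The degrees 889111 = 23 · 29 · 31 · 43 and 1981808640 = 2²¹ · 3³ · 5 · 7.
-/

set_option autoImplicit false

namespace Cfsg.Agent.H781.LD

open Cfsg Cfsg.Agent.H954.LD

universe u

/-- **The row `J₄`.** -/
theorem row_J4 {S : Type u} [Group S] [Finite S] [IsSimpleGroup S] (hna : ¬ IsMulCommutative S) (h : Spor.IsoJ4 S) :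
    CopRow S := by
  obtain ⟨e⟩ := h
  obtain ⟨χ, hχ⟩ := H492.IMJ4.exists_889111
  obtain ⟨ψ, hψ⟩ := H894.J4Two.exists_degree
  have h1 : (889111 : ℕ) ∈ charDegrees Spor.J4 := by
    refine ⟨χ, ?_⟩
    have h2 := Blocks.Knorr.charDegree_eq χ.2
    rw [hχ] at h2
    exact_mod_cast h2.symm
  exact copRow_of_model hna e Cfsg.Agent.S2068.result h1 ⟨ψ, hψ⟩ (by norm_num) (by norm_num) (by norm_num)

end Cfsg.Agent.H781.LD
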